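import Mathlib.LinearAlgebra.FiniteDimensional.Lemmas
import Mathlib.RingTheory.Noetherian.Basic
import Mathlib.RingTheory.Ideal.Maps
import Mathlib.Data.Nat.Nth

/-!
# A diagonal element in the limit of a tower of quotients
-/

set_option autoImplicit false
set_option linter.style.haveILetI false

universe u

noncomputable section

namespace GrothLib.TowerDiag0

open Submodule

variable {k A M : Type u} [Field k] [CommRing A] [Algebra k A] [AddCommGroup M] [Module A M] [Module k M]
  [IsScalarTower k A M]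

/-- Elements of `M` falling into `H` after multiplication by an element outside `p`. -/
def sat (H : Submodule A M) (p : Ideal A) [p.IsPrime] : Submodule A M where
  carrier := {y | ∃ u ∉ p, u • y ∈ H}
  zero_mem' := ⟨1, fun h => (Ideal.IsPrime.ne_top ‹_›) ((Ideal.eq_top_iff_one p).2 h), by simp⟩
  add_mem' := by
    rintro y z ⟨u, hu, hy⟩ ⟨v, hv, hz⟩
    refine ⟨u * v, fun h => (Ideal.IsPrime.mem_or_mem ‹_› h).elim hu hv, ?_⟩
    rw [smul_add]
    refine H.add_mem ?_ ?_
    · rw [mul_comm, mul_smul]; exact H.smul_mem _ hy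
    · rw [mul_smul]; exact H.smul_mem _ hz
  smul_mem' := by
    rintro a y ⟨u, hu, hy⟩
    exact ⟨u, hu, by rw [smul_comm]; exact H.smul_mem _ hy⟩

variable (H : ℕ → Submodule A M) (x : ℕ → Ideal A) [∀ j, (x j).IsPrime] (n : ℕ → ℕ) (m : ℕ → M) (J : Ideal A)

/-- The partial sums attached to a sequence of bits. -/
def part (a : ℕ → Bool) (i : ℕ) : M := ∑ l ∈ Finset.range i, if a l then m l else 0

theorem part_congr {a b : ℕ → Bool} {i : ℕ} (h : ∀ l < i, a l = b l) : part m a i = part m b i :=
  Finset.sum_congr rfl fun l hl => by rw [h l (Finset.mem_range.1 hl)]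

/-- The linear form testing a candidate lift at step `j`. -/
def test (y : M) : A × M →ₗ[k] M where
  toFun p := p.1 • y - p.2
  map_add' p q := by simp only [Prod.fst_add, Prod.snd_add, add_smul]; abel
  map_smul' c p := by simp only [Prod.smul_fst, Prod.smul_snd, RingHom.id_apply, smul_assoc, smul_sub]

/-- The candidate lifts in `W` surviving the tests in `[e, N)`. -/
def surv (a : ℕ → Bool) (W : Submodule k (A × M)) (e N : ℕ) : Submodule k (A × M) :=
  W ⊓ ⨅ j ∈ Set.Ico e N, ((sat (H (n j + 1)) (x j)).restrictScalars k).comap (test (part m a (j + 1)))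

theorem mem_surv {a : ℕ → Bool} {W : Submodule k (A × M)} {e N : ℕ} {p : A × M} :
    p ∈ surv H x n m a W e N ↔
      p ∈ W ∧ ∀ j, e ≤ j → j < N → p.1 • part m a (j + 1) - p.2 ∈ sat (H (n j + 1)) (x j) := by
  simp [surv, test, Submodule.mem_iInf]

variable (hx : ∀ j, ∀ f ∉ x j, f • m j ∉ H (n j + 1)) (hJ : ∀ f ∉ J, ∃ e, ∀ j, e ≤ j → f ∉ x j)

include hx hJ in
theorem exists_kill (W : Submodule k (A × M)) [FiniteDimensional k W] (e : ℕ) (a : ℕ → Bool) (N : ℕ) :
    ∃ (a' : ℕ → Bool) (N' : ℕ), N ≤ N' ∧ (∀ l < N, a' l = a l) ∧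
      ∀ p ∈ surv H x n m a' W e N', p.1 ∈ J := by
  generalize hd : Module.finrank k (surv H x n m a W e N) = d
  induction d using Nat.strong_induction_on generalizing a N with
  | _ d ih =>
    by_cases hall : ∀ p ∈ surv H x n m a W e N, p.1 ∈ J
    · exact ⟨a, N, le_rfl, fun _ _ => rfl, hall⟩
    push Not at hall
    obtain ⟨p, hp, hpJ⟩ := hall
    obtain ⟨e₀, he₀⟩ := hJ p.1 hpJ
    let j := max (max e N) e₀
    have hje : e ≤ j := (le_max_left e N).trans (le_max_left _ _)
    have hjN : N ≤ j := (le_max_right e N).trans (le_max_left _ _)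
    have hjx : p.1 ∉ x j := he₀ j (le_max_right _ _)
    -- one of the two choices at `j` kills `p`
    obtain ⟨b, hb⟩ : ∃ b : Bool, p.1 • part m (Function.update a j b) (j + 1) - p.2 ∉
        sat (H (n j + 1)) (x j) := by
      by_contra hcon
      push Not at hcon
      have h := (sat (H (n j + 1)) (x j)).sub_mem (hcon true) (hcon false)
      have e1 : ∀ b : Bool, part m (Function.update a j b) (j + 1) = part m a j + if b then m j else 0 :=
        fun b => by
        rw [part, Finset.sum_range_succ, Function.update_self]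
        congr 1
        exact Finset.sum_congr rfl fun l hl => by
          rw [Function.update_of_ne (Finset.mem_range.1 hl).ne]
      rw [e1, e1] at h
      simp only [↓reduceIte, Bool.false_eq_true, smul_add, add_zero] at h
      obtain ⟨u, hu, hh⟩ := h
      refine hx j (u * p.1) (fun hm => (Ideal.IsPrime.mem_or_mem inferInstance hm).elim hu hjx) ?_
      rw [mul_smul]
      convert hh using 2
      abel
    let a₁ := Function.update a j b
    have hagree : ∀ l < N, a₁ l = a l := fun l hl =>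
      Function.update_of_ne (lt_of_lt_of_le hl hjN).ne _ _
    have hsub : surv H x n m a₁ W e (j + 1) ≤ surv H x n m a W e N := fun q hq => by
      rw [mem_surv] at hq ⊢
      refine ⟨hq.1, fun i hi hiN => ?_⟩
      have := hq.2 i hi (by omega)
      rwa [part_congr m (a := a₁) (b := a) (i := i + 1) (fun l hl => hagree l (by omega))] at this
    have hlt : surv H x n m a₁ W e (j + 1) < surv H x n m a W e N :=
      lt_of_le_of_ne hsub fun heq => hb ((mem_surv H x n m).1 (heq.ge hp) |>.2 j hje (by omega))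
    haveI : FiniteDimensional k (surv H x n m a W e N) :=
      Submodule.finiteDimensional_of_le (inf_le_left : surv H x n m a W e N ≤ W)
    obtain ⟨a', N', hN', hag, hkill⟩ := ih _ (hd ▸ Submodule.finrank_lt_finrank_of_lt hlt) a₁ (j + 1) rfl
    exact ⟨a', N', by omega, fun l hl => (hag l (by omega)).trans (hagree l hl), hkill⟩

variable (W : ℕ → Submodule k (A × M)) [∀ e, FiniteDimensional k (W e)]

include hx hJ in
/-- A sequence of bits defeating every candidate lift. -/
theorem exists_bits (hW : ∀ p : A × M, ∀ e, ∃ i, e ≤ i ∧ p ∈ W i) :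
    ∃ a : ℕ → Bool, ∀ f ∉ J, ∀ (z : M) (e : ℕ),
      ∃ j, e ≤ j ∧ f • part m a (j + 1) - z ∉ sat (H (n j + 1)) (x j) := by
  classical
  choose A' N' hN hag hk using fun (e : ℕ) (s : (ℕ → Bool) × ℕ) =>
    exists_kill H x n m J hx hJ (W e) e s.1 (s.2 + 1)
  let s : ℕ → (ℕ → Bool) × ℕ := fun e => Nat.rec (fun _ => false, 0) (fun e r => (A' e r, N' e r)) e
  have hmono : ∀ e, (s e).2 < (s (e + 1)).2 := fun e => hN e (s e)
  have hge : ∀ e, e ≤ (s e).2 := fun e => by
    induction e with
    | zero => exact le_rfl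
    | succ e ih => exact Nat.succ_le_of_lt (lt_of_le_of_lt ih (hmono e))
  have hstep : ∀ e d, ∀ l < (s e).2, (s (e + d)).1 l = (s e).1 l := by
    intro e d
    induction d with
    | zero => intro l _; rfl
    | succ d ih =>
      intro l hl
      have h2 : (s e).2 ≤ (s (e + d)).2 :=
        monotone_nat_of_le_succ (f := fun e => (s e).2) (fun e => (hmono e).le) (Nat.le_add_right e d)
      exact (hag (e + d) (s (e + d)) l (by omega)).trans (ih l hl)
  let a : ℕ → Bool := fun l => (s (l + 1)).1 l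
  have ha : ∀ e, ∀ l < (s e).2, a l = (s e).1 l := fun e l hl => by
    rcases le_total e (l + 1) with h | h
    · obtain ⟨d, hd⟩ := Nat.exists_eq_add_of_le h
      show (s (l + 1)).1 l = _
      rw [hd]
      exact hstep e d l hl
    · obtain ⟨d, hd⟩ := Nat.exists_eq_add_of_le h
      subst hd
      exact (hstep (l + 1) d l (Nat.lt_of_succ_le (hge (l + 1)))).symm
  refine ⟨a, fun f hf z e => ?_⟩
  obtain ⟨i, hi, hiW⟩ := hW (f, z) e
  have hns : (f, z) ∉ surv H x n m (s (i + 1)).1 (W i) i (s (i + 1)).2 := fun h => hf (hk i (s i) _ h)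
  rw [mem_surv] at hns
  push Not at hns
  obtain ⟨j, hj, hjN, hbad⟩ := hns hiW
  refine ⟨j, hi.trans hj, ?_⟩
  rwa [part_congr m (a := a) (b := (s (i + 1)).1) (fun l hl => ha (i + 1) l (by omega))]

/-- A non-stationary tower of submodules supplies the data of the diagonal construction. -/
theorem exists_data [IsNoetherianRing A] (hns : ∀ N, ∃ i, N ≤ i ∧ ¬ H i ≤ H (i + 1)) :
    ∃ (n : ℕ → ℕ) (m : ℕ → M) (x : ℕ → Ideal A) (J : Ideal A), StrictMono n ∧ J.IsPrime ∧
      (∀ j, m j ∈ H (n j)) ∧ (∀ j, (x j).IsPrime) ∧ (∀ j, ∀ f ∉ x j, f • m j ∉ H (n j + 1)) ∧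
      (∀ f ∉ J, ∃ e, ∀ j, e ≤ j → f ∉ x j) := by
  classical
  let T : Set ℕ := {i | ¬ H i ≤ H (i + 1)}
  have hT : T.Infinite := fun hfin => by
    obtain ⟨b, hb⟩ := hfin.bddAbove
    obtain ⟨i, hi, hiT⟩ := hns (b + 1)
    have := hb hiT
    omega
  have hch : ∀ i : T, ∃ (y : M) (p : Ideal A), p.IsPrime ∧ y ∈ H i ∧ ∀ f ∉ p, f • y ∉ H (i + 1) := fun i => by
    obtain ⟨y, hy, hy'⟩ := SetLike.not_le_iff_exists.1 i.2
    let c : Ideal A := (H (i + 1)).comap (LinearMap.toSpanSingleton A M y)
    have hc : c ≠ ⊤ := fun h => hy' (by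
      have h1 : (1 : A) ∈ c := h ▸ Submodule.mem_top
      simpa [c] using h1)
    obtain ⟨p, hp, hcp⟩ := Ideal.exists_le_maximal c hc
    exact ⟨y, p, hp.isPrime, hy, fun f hf h => hf (hcp (by simpa [c] using h))⟩
  choose y p hp hy hyp using hch
  let S : Set (Ideal A) := {J | {i : T | J ≤ p i}.Infinite}
  have hbot : (⊥ : Ideal A) ∈ S := by
    show {i : T | ⊥ ≤ p i}.Infinite
    simp only [bot_le, Set.setOf_true]
    haveI := hT.to_subtype
    exact Set.infinite_univ
  obtain ⟨J, hJS, hJmax⟩ := wellFounded_gt.has_min S ⟨_, hbot⟩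
  have hfin : ∀ f ∉ J, {i : T | J ≤ p i ∧ f ∈ p i}.Finite := fun f hf => by
    by_contra hinf
    refine hJmax (J ⊔ Ideal.span {f}) ?_ ?_
    · refine Set.Infinite.mono ?_ hinf
      intro i hi
      exact sup_le hi.1 ((Ideal.span_singleton_le_iff_mem _).2 hi.2)
    · exact lt_of_le_of_ne le_sup_left fun h => hf (by
        rw [h]; exact Ideal.mem_sup_right (Ideal.mem_span_singleton_self f))
  have hprime : J.IsPrime := by
    refine ⟨fun htop => ?_, fun {f g} hfg => ?_⟩
    · obtain ⟨i, hi⟩ := hJS.nonempty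
      exact (hp i).ne_top (top_le_iff.1 (htop.symm.le.trans hi))
    · by_contra hcon
      push Not at hcon
      refine hJS (((hfin f hcon.1).union (hfin g hcon.2)).subset fun i hi => ?_)
      rcases (hp i).mem_or_mem (hi hfg) with h | h
      · exact Or.inl ⟨hi, h⟩
      · exact Or.inr ⟨hi, h⟩
  let T' : Set ℕ := Subtype.val '' {i : T | J ≤ p i}
  have hT' : T'.Infinite := Set.Infinite.image (Set.injOn_of_injective Subtype.val_injective) hJS
  let n : ℕ → ℕ := fun j => Nat.nth (· ∈ T') j
  have hn : ∀ j, n j ∈ T' := Nat.nth_mem_of_infinite hT'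
  have hnm : StrictMono n := Nat.nth_strictMono hT'
  choose i hiJ hin using hn
  refine ⟨n, fun j => y (i j), fun j => p (i j), J, hnm, hprime, fun j => hin j ▸ hy (i j), fun j => hp _,
    fun j f hf => hin j ▸ hyp (i j) f hf, fun f hf => ?_⟩
  have hF := (hfin f hf).image Subtype.val
  obtain ⟨b, hb⟩ := hF.bddAbove
  refine ⟨b + 1, fun j hj hfp => ?_⟩
  have h1 : ((i j : T) : ℕ) ≤ b := hb ⟨i j, ⟨hiJ j, hfp⟩, rfl⟩
  rw [hin j] at h1
  have := hnm.id_le j
  simp only [id_eq] at this
  omega

end GrothLib.TowerDiag0
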