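import Groth.Agent.Lib.TowerDiag0.Diag
import Groth.Agent.Lib.QCoh.Filtration
import Groth.Agent.Lib.ModDesc.Basic
import Groth.Agent.Lib.OX.Exact
import Groth.Agent.Lib.AssPts.Points
import Mathlib.AlgebraicGeometry.Morphisms.FiniteType
import Mathlib.RingTheory.FiniteType
import Mathlib.CategoryTheory.Limits.Types.Limits
import Mathlib.CategoryTheory.Limits.FunctorCategory.Basic

/-!
# Towers of quotients of a countably generated quasi-coherent module
-/

set_option autoImplicit false
set_option backward.isDefEq.respectTransparency false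
set_option linter.style.haveILetI false

universe u

open CategoryTheory CategoryTheory.Limits AlgebraicGeometry Opposite TopologicalSpace
open scoped Pointwise
open GrothLib.QCoh (appLinear stalkLin stalkLin_germ)

noncomputable section

namespace GrothLib.TowerDiag0

theorem exists_filtration (k : Type u) [Field k] {A M : Type u} [CommRing A] [Algebra k A]
    [Algebra.FiniteType k A] [AddCommGroup M] [Module A M] [Module k M] [IsScalarTower k A M]
    (s : Set M) (hs : s.Countable) (hspan : Submodule.span A s = ⊤) :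
    ∃ W : ℕ → Submodule k (A × M), (∀ e, FiniteDimensional k (W e)) ∧
      ∀ p : A × M, ∀ e, ∃ i, e ≤ i ∧ p ∈ W i := by
  classical
  obtain ⟨r, φ, hφ⟩ := Algebra.FiniteType.iff_quotient_mvPolynomial''.1 (‹Algebra.FiniteType k A›)
  let mon : (Fin r →₀ ℕ) → A := fun d => φ (MvPolynomial.monomial d 1)
  have hA : Submodule.span k (Set.range mon) = ⊤ := by
    have h : Set.range mon = φ.toLinearMap '' Set.range (fun d => MvPolynomial.monomial d (1 : k)) := by
      rw [← Set.range_comp]; rfl
    rw [h, Submodule.span_image, show Submodule.span k (Set.range fun d => MvPolynomial.monomial d (1 : k)) = ⊤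
      from (MvPolynomial.basisMonomials (Fin r) k).span_eq, Submodule.map_top,
      LinearMap.range_eq_top.2 (fun a => hφ a)]
  let gM : Set M := Set.image2 (fun a y => a • y) (Set.range mon) s
  have hgM : gM.Countable := (Set.countable_range mon).image2 hs _
  have hM : Submodule.span k gM = ⊤ := by
    rw [show gM = Set.range mon • s from Set.image2_smul, Submodule.span_smul_of_span_eq_top hA, hspan,
      Submodule.restrictScalars_top]
  let g : Set (A × M) := insert 0 ((fun a => (a, (0 : M))) '' Set.range mon ∪ (fun y => ((0 : A), y)) '' gM)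
  have hg : g.Countable :=
    (((Set.countable_range mon).image _).union (hgM.image _)).insert _
  have hgs : Submodule.span k g = ⊤ := by
    refine eq_top_iff.2 fun p _ => ?_
    have e : p = (p.1, 0) + (0, p.2) := by simp
    rw [e]
    refine Submodule.add_mem _ ?_ ?_
    · refine Submodule.span_mono (Set.subset_union_left.trans (Set.subset_insert _ _)) ?_
      rw [show (fun a => (a, (0 : M))) '' Set.range mon = LinearMap.inl k A M '' Set.range mon from rfl,
        Submodule.span_image, hA, Submodule.map_top]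
      exact ⟨p.1, rfl⟩
    · refine Submodule.span_mono (Set.subset_union_right.trans (Set.subset_insert _ _)) ?_
      rw [show (fun y => ((0 : A), y)) '' gM = LinearMap.inr k A M '' gM from rfl,
        Submodule.span_image, hM, Submodule.map_top]
      exact ⟨p.2, rfl⟩
  obtain ⟨f, hf⟩ := hg.exists_eq_range ⟨0, Set.mem_insert _ _⟩
  refine ⟨fun e => Submodule.span k (f '' (Finset.range e : Set ℕ)),
    fun e => FiniteDimensional.span_of_finite k ((Finset.range e).finite_toSet.image f), fun p e => ?_⟩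
  have hp : p ∈ Submodule.span k (Set.range f) := by rw [← hf, hgs]; trivial
  obtain ⟨t, ht, hpt⟩ := Submodule.mem_span_finite_of_mem_span hp
  have hfin : ∀ q ∈ t, ∃ l, f l = q := fun q hq => ht hq
  choose l hl using hfin
  refine ⟨max e ((t.attach.image fun q => l q.1 q.2).sup id + 1), le_max_left _ _,
    Submodule.span_mono (fun q hq => ?_) hpt⟩
  refine ⟨l q hq, Finset.mem_coe.2 (Finset.mem_range.2 (lt_max_of_lt_right (Nat.lt_succ_of_le ?_))), hl q hq⟩
  exact Finset.le_sup (f := id) (Finset.mem_image.2 ⟨⟨q, hq⟩, Finset.mem_attach _ _, rfl⟩)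

variable {X : Scheme.{u}} (Q : ℕᵒᵖ ⥤ X.Modules) (c : Cone Q)

/-- The projection on sections. -/
def piAt (U : X.Opens) (i : ℕ) : Γ(c.pt, U) →ₗ[Γ(X, U)] Γ(Q.obj (op i), U) := appLinear (c.π.app (op i)) U

theorem piAt_comp (U : X.Opens) {i j : ℕ} (h : i ≤ j) (y : Γ(c.pt, U)) :
    (Q.map (homOfLE h).op).app U (piAt Q c U j y) = piAt Q c U i y :=
  congrArg (fun φ => (Scheme.Modules.Hom.app φ U) y) (c.w (homOfLE h).op)

theorem exists_section (U : X.Opens) (v : ∀ i, Γ(Q.obj (op i), U))
    (hv : ∀ i j (h : i ≤ j), (Q.map (homOfLE h).op).app U (v j) = v i) :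
    ∃ σ : Γ(limit Q, U), ∀ i, (limit.π Q (op i)).app U σ = v i := by
  let Φ : X.Modules ⥤ Type u := Scheme.Modules.toPresheaf X ⋙
    (CategoryTheory.evaluation _ _).obj (op U) ⋙ forget Ab.{u}
  haveI : PreservesLimitsOfSize.{0, 0} (Scheme.Modules.toPresheaf X) := preservesLimitsOfSize_shrink _
  haveI : PreservesLimitsOfSize.{0, 0} (forget Ab.{u}) := preservesLimitsOfSize_shrink _
  haveI : PreservesLimitsOfShape ℕᵒᵖ
      ((CategoryTheory.evaluation (Opens X)ᵒᵖ Ab.{u}).obj (op U)) := inferInstance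
  haveI : PreservesLimitsOfShape ℕᵒᵖ Φ := inferInstance
  have hl := isLimitOfPreserves Φ (limit.isLimit Q)
  let sec : (Q ⋙ Φ).sections := ⟨fun i => v i.unop, fun {i j} φ => by
    have : φ = (homOfLE (leOfHom φ.unop)).op := Subsingleton.elim _ _
    rw [this]
    exact hv _ _ _⟩
  refine ⟨(Types.isLimitEquivSections hl).symm sec, fun i => ?_⟩
  exact Types.isLimitEquivSections_symm_apply hl sec (op i)

variable (k : Type u) [Field k] [X.Over (Spec (CommRingCat.of k))]
  [LocallyOfFiniteType (X ↘ Spec (CommRingCat.of k))]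

include k in
theorem exists_stable_affine (hQ : ∀ n : ℕ, Coh.IsQCoh (Q.obj (op n))) (hG : Coh.IsQCoh c.pt)
    (hlim : Epi (limit.lift Q c)) {U : X.Opens} (hU : IsAffineOpen U)
    (hgen : ∃ s : Set Γ(c.pt, U), s.Countable ∧ Submodule.span Γ(X, U) s = ⊤) :
    ∃ N, ∀ i, N ≤ i → LinearMap.ker (piAt Q c U i) ≤ LinearMap.ker (piAt Q c U (i + 1)) := by
  classical
  haveI := fun n => hQ n
  haveI : c.pt.IsQuasicoherent := hG
  let A := Γ(X, U)
  let sT := X ↘ Spec (CommRingCat.of k)
  let φk : k →+* A := (sT.appLE ⊤ U le_top).hom.comp (Scheme.ΓSpecIso (CommRingCat.of k)).inv.hom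
  have hft : φk.FiniteType := (LocallyOfFiniteType.finiteType_appLE sT (isAffineOpen_top _) hU le_top).comp
    (RingHom.FiniteType.of_surjective _ (Scheme.ΓSpecIso (CommRingCat.of k)).commRingCatIsoToRingEquiv.symm.surjective)
  letI : Algebra k A := φk.toAlgebra
  haveI : Algebra.FiniteType k A := hft
  haveI : IsNoetherianRing A := Algebra.FiniteType.isNoetherianRing k A
  letI : Module k Γ(c.pt, U) := Module.compHom _ (algebraMap k A)
  haveI : IsScalarTower k A Γ(c.pt, U) := IsScalarTower.of_algebraMap_smul fun _ _ => rfl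
  obtain ⟨s, hs, hspan⟩ := hgen
  obtain ⟨W, hW, hWex⟩ := exists_filtration k (A := A) s hs hspan
  haveI := hW
  let H : ℕ → Submodule A Γ(c.pt, U) := fun i => LinearMap.ker (piAt Q c U i)
  have hH : ∀ {i j : ℕ}, i ≤ j → H j ≤ H i := fun {i j} h y hy => by
    rw [LinearMap.mem_ker] at hy ⊢
    rw [← piAt_comp Q c U h y, hy, map_zero]
  by_contra hns
  push Not at hns
  obtain ⟨n, m, x, J, hn, hJp, hm, hxp, hx, hJ⟩ := exists_data H hns
  haveI := hxp
  obtain ⟨a, ha⟩ := exists_bits (k := k) H x n m J hx hJ W hWex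
  let P : ℕ → Γ(c.pt, U) := fun i => part m a i
  have hPstep : ∀ i l, i ≤ n l → ∀ d, P (l + d) - P l ∈ H i := fun i l hil d => by
    induction d with
    | zero => simp
    | succ d ih =>
      have e : P (l + (d + 1)) - P l = (P (l + d) - P l) + (if a (l + d) then m (l + d) else 0) := by
        show part m a (l + d + 1) - _ = _
        rw [part, Finset.sum_range_succ]
        show _ + _ - P l = (P (l + d) - P l) + _
        simp only [P, part]
        abel
      rw [e]
      refine (H i).add_mem ih ?_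
      split
      · exact hH (hil.trans (hn.monotone (Nat.le_add_right l d))) (hm _)
      · exact (H i).zero_mem
  -- the element of the limit
  have hP : ∀ i l, i ≤ n l → piAt Q c U i (P l) = piAt Q c U i (P i) := fun i l hil => by
    have key : ∀ l₁ l₂, l₁ ≤ l₂ → i ≤ n l₁ → piAt Q c U i (P l₂) = piAt Q c U i (P l₁) := fun l₁ l₂ hle hi => by
      obtain ⟨d, rfl⟩ := Nat.exists_eq_add_of_le hle
      exact sub_eq_zero.1 (by rw [← map_sub]; exact LinearMap.mem_ker.1 (hPstep i l₁ hi d))
    have hi : i ≤ n i := hn.id_le i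
    rcases le_total l i with h | h
    · exact (key l i h hil).symm
    · exact key i l h hi
  obtain ⟨σ, hσ⟩ := exists_section Q U (fun i => piAt Q c U i (P i)) fun i j h => by
    rw [piAt_comp Q c U h]
    exact hP i j (h.trans (hn.id_le j))
  -- lift it near the generic point of the obstruction
  obtain ⟨η, hη, hηJ⟩ := AssPts.exists_point hU J hJp
  let L := limit.lift Q c
  have hsurj : Function.Surjective (stalkLin L η) := by
    haveI : Epi ((OX.stalk η).map L) := inferInstance
    exact (ModuleCat.epi_iff_surjective ((OX.stalk η).map L)).1 inferInstance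
  obtain ⟨e, he⟩ := hsurj ((limit Q).presheaf.germ U η hη σ)
  obtain ⟨b, z, hb, hz⟩ := WeakAss.exists_smul_eq_germ hU hη e
  have h1 : (limit Q).presheaf.germ U η hη (L.app U z) = (limit Q).presheaf.germ U η hη (b • σ) := by
    rw [← stalkLin_germ, ← hz, map_smul, he, WeakAss.germ_smul]
  obtain ⟨V, hηV, iV, iV₂, hVeq⟩ := TopCat.Presheaf.germ_eq (limit Q).presheaf η hη hη _ _ h1
  obtain ⟨g, hgV, hηg⟩ := hU.exists_basicOpen_le (⟨η, hηV⟩ : V) hη
  obtain ⟨e₁, he₁⟩ := hJ g (hηJ ▸ WeakAss.notMem_primeAt_iff.2 hηg)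
  obtain ⟨j, hj, hbad⟩ := ha b (hηJ ▸ hb) z e₁
  refine hbad ?_
  obtain ⟨ξ, hξ, hξx⟩ := AssPts.exists_point hU (x j) (hxp j)
  have hξg : ξ ∈ X.basicOpen g := WeakAss.notMem_primeAt_iff.1 (hξx ▸ he₁ j hj)
  let d := piAt Q c U (n j + 1) z - b • piAt Q c U (n j + 1) (part m a (j + 1))
  have hd : d = (limit.π Q (op (n j + 1))).app U (L.app U z - b • σ) := by
    have e1 : piAt Q c U (n j + 1) (part m a (j + 1)) = piAt Q c U (n j + 1) (P (n j + 1)) :=
      hP (n j + 1) (j + 1) (hn (Nat.lt_succ_self j))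
    have e2 : (limit.π Q (op (n j + 1))).app U (L.app U z) = piAt Q c U (n j + 1) z :=
      congrArg (fun φ => (Scheme.Modules.Hom.app φ U) z) (limit.lift_π c (op (n j + 1)))
    have e3 : (limit.π Q (op (n j + 1))).app U (b • σ) = b • (limit.π Q (op (n j + 1))).app U σ :=
      (appLinear (limit.π Q (op (n j + 1))) U).map_smul b σ
    rw [map_sub, e2, e3, hσ]
    simp only [d, e1]
  have hd0 : (Q.obj (op (n j + 1))).presheaf.germ U ξ hξ d = 0 := by
    rw [hd, ← stalkLin_germ]
    have h0 : (limit Q).presheaf.germ U ξ hξ (L.app U z - b • σ) = 0 := by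
      rw [map_sub, sub_eq_zero, ← TopCat.Presheaf.germ_res_apply (limit Q).presheaf iV ξ (hgV hξg),
        hVeq, TopCat.Presheaf.germ_res_apply]
    rw [h0, map_zero]
  obtain ⟨u, hu, hud⟩ := (WeakAss.germ_eq_zero_iff hU hξ d).1 hd0
  refine ⟨u, hξx ▸ hu, ?_⟩
  rw [LinearMap.mem_ker, map_smul, map_sub, map_smul, ← neg_sub, smul_neg, neg_eq_zero]
  exact hud

include k in
theorem exists_isIso [CompactSpace X] (hQ : ∀ n : ℕ, Coh.IsQCoh (Q.obj (op n)))
    (hG : Coh.IsQCoh c.pt)
    (hGc : ∀ U : X.affineOpens, ∃ s : Set Γ(c.pt, (U : X.Opens)), s.Countable ∧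
      Submodule.span Γ(X, (U : X.Opens)) s = ⊤)
    (hepi : ∀ n : ℕ, Epi (c.π.app (op n))) (hlim : Epi (limit.lift Q c)) :
    ∃ N : ℕ, ∀ n : ℕ, N ≤ n → IsIso (Q.map (homOfLE (Nat.le_succ n)).op) := by
  classical
  haveI := fun n => hQ n
  haveI : c.pt.IsQuasicoherent := hG
  let 𝒰 := X.affineCover.finiteSubcover
  let U : 𝒰.I₀ → X.affineOpens := fun i => ⟨(𝒰.f i).opensRange, isAffineOpen_opensRange _⟩
  choose N hN using fun i => exists_stable_affine Q c k hQ hG hlim (U i).2 (hGc (U i))
  refine ⟨Finset.univ.sup N, fun n hn => ?_⟩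
  refine QCoh.isIso_of_bijective_on_cover _ (fun i => ((U i : X.affineOpens) : X.Opens)) ?_ (fun i => (U i).2)
    fun i => ?_
  · exact 𝒰.iSup_opensRange
  have hsur : ∀ l, Function.Surjective (piAt Q c (U i) l) := fun l => by
    let q : c.pt ⟶ Q.obj (op l) := c.π.app (op l)
    haveI : Epi q := hepi l
    exact ModDesc.app_surjective_of_epi q (U i).2
  refine ⟨(injective_iff_map_eq_zero _).2 fun q hq => ?_, fun q => ?_⟩
  · obtain ⟨y, rfl⟩ := hsur (n + 1) q
    exact hN i n ((Finset.le_sup (Finset.mem_univ i)).trans hn)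
      (LinearMap.mem_ker.2 ((piAt_comp Q c _ (Nat.le_succ n) y).symm.trans hq))
  · obtain ⟨y, rfl⟩ := hsur n q
    exact ⟨piAt Q c _ (n + 1) y, piAt_comp Q c _ (Nat.le_succ n) y⟩

end GrothLib.TowerDiag0
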